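import Cfsg.Agent.Helper57UnipClass
import Mathlib.Combinatorics.Enumerative.Partition.Basic

/-!
Unipotent classes of `GL_n` and partitions.
-/

set_option autoImplicit false

namespace CfsgLib.GLUnip

open Module Cfsg.Agent.Jordan57 CfsgLib.RankProfile

variable {F : Type*} [Field F] {n : ℕ}

theorem isNilpotent_nilPart_iff (g : GL (Fin n) F) :
    IsNilpotent (nilPart g) ↔ IsNilpotent ((g : Matrix (Fin n) (Fin n) F) - 1) := by
  have : nilPart g = Matrix.toLinAlgEquiv' ((g : Matrix (Fin n) (Fin n) F) - 1) := rfl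
  rw [this, IsNilpotent.map_iff (Matrix.toLinAlgEquiv' (R := F) (n := Fin n)).injective]

/-- Unipotent elements are the elements of `p`-power order. -/
theorem pPower_iff [Fintype F] {p : ℕ} [Fact p.Prime] [CharP F p] (g : GL (Fin n) F) :
    (∃ k : ℕ, orderOf g = p ^ k) ↔ IsNilpotent ((g : Matrix (Fin n) (Fin n) F) - 1) := by
  rcases Nat.eq_zero_or_pos n with h0 | h0
  · subst h0
    exact ⟨fun _ => ⟨1, Subsingleton.elim _ _⟩, fun _ => ⟨0, by rw [Subsingleton.elim g 1, orderOf_one, pow_zero]⟩⟩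
  haveI : NeZero n := ⟨h0.ne'⟩
  haveI : CharP (Matrix (Fin n) (Fin n) F) p := charP_of_injective_algebraMap (algebraMap F _).injective p
  have key : ∀ k : ℕ, g ^ p ^ k = 1 ↔ ((g : Matrix (Fin n) (Fin n) F) - 1) ^ p ^ k = 0 := fun k => by
    rw [sub_pow_char_pow_of_commute (p := p) (n := k) (Commute.one_right _), one_pow, sub_eq_zero,
      Units.ext_iff, Units.val_pow_eq_pow_val, Units.val_one]
  constructor
  · rintro ⟨k, hk⟩
    exact ⟨p ^ k, (key k).1 (hk ▸ pow_orderOf_eq_one g)⟩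
  · rintro ⟨m, hm⟩
    have h1 : g ^ p ^ m = 1 :=
      (key m).2 (pow_eq_zero_of_le (Nat.lt_pow_self (Fact.out : p.Prime).one_lt).le hm)
    obtain ⟨k, -, hk⟩ := (Nat.dvd_prime_pow (Fact.out : p.Prime)).1 (orderOf_dvd_of_pow_eq_one h1)
    exact ⟨k, hk⟩

/-- The unipotent classes correspond to the partitions of `n`. -/
theorem card_unip_classes [Fintype F] {p : ℕ} [Fact p.Prime] [CharP F p] :
    Nat.card {C : ConjClasses (GL (Fin n) F) //
      ∃ g : GL (Fin n) F, (∃ k : ℕ, orderOf g = p ^ k) ∧ ConjClasses.mk g = C} =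
      Fintype.card (Nat.Partition n) := by
  classical
  have hrep : ∀ μ : Nat.Partition n, ∃ g : GL (Fin n) F, IsNilpotent (nilPart g) ∧
      ∀ k, finrank F (LinearMap.range (nilPart g ^ k)) = partProfile μ.parts k := fun μ =>
    exists_unip_of_parts μ.parts μ.parts_sum
  choose rep hnil hprof using hrep
  let f : Nat.Partition n → {C : ConjClasses (GL (Fin n) F) //
      ∃ g : GL (Fin n) F, (∃ k : ℕ, orderOf g = p ^ k) ∧ ConjClasses.mk g = C} := fun μ =>
    ⟨ConjClasses.mk (rep μ), rep μ,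
      (pPower_iff _).2 ((isNilpotent_nilPart_iff _).1 (hnil μ)), rfl⟩
  rw [← Nat.card_eq_fintype_card]
  refine (Nat.card_eq_of_bijective f ⟨fun μ ν h => ?_, ?_⟩).symm
  · obtain ⟨c, hc⟩ := isConj_iff.1 (ConjClasses.mk_eq_mk_iff_isConj.1 (congrArg Subtype.val h))
    refine Nat.Partition.ext (parts_eq_of_profile (fun a ha => μ.parts_pos ha) (fun a ha => ν.parts_pos ha)
      fun k => ?_)
    rw [← hprof, ← hprof, ← hc, nilPart_conj]
  · rintro ⟨C, g, hg, rfl⟩
    have hg' := (isNilpotent_nilPart_iff g).2 ((pPower_iff g).1 hg)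
    obtain ⟨Ch⟩ := exists_chains hg'
    have hsum : Ch.parts.sum = n := by
      have h := Ch.finrank_range_pow 0
      rw [pow_zero, Module.End.one_eq_id, LinearMap.range_id, finrank_top, Module.finrank_fin_fun] at h
      simp [partProfile] at h
      exact h.symm
    refine ⟨⟨Ch.parts, fun {a} ha => Ch.parts_pos a ha, hsum⟩, Subtype.ext ?_⟩
    exact ConjClasses.mk_eq_mk_iff_isConj.2 (isConj_of_profile (hnil _) hg' fun k => by
      rw [hprof, Ch.finrank_range_pow])

end CfsgLib.GLUnip
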