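import Mathlib

/-!
The number of nilpotent endomorphisms of an `n`-dimensional space over `F_q` is `q^(n(n-1))`
(Fine–Herstein), by counting pairs of a nilpotent endomorphism and a vector.
-/

set_option autoImplicit false

namespace CfsgLib.GLUnip

open Module Matrix

variable (F : Type*) [Field F]

/-- The number of nilpotent `m × m` matrices. -/
noncomputable def nilCount (m : ℕ) : ℕ := Nat.card {M : Matrix (Fin m) (Fin m) F // IsNilpotent M}

variable {F}

/-- The following vector in a chain, or zero at its end. -/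
def nextVec {V : Type*} [Zero V] {d : ℕ} (w : Fin d → V) (i : Fin d) : V :=
  if h : (i : ℕ) + 1 < d then w ⟨i + 1, h⟩ else 0

/-- The nilpotent shift. -/
def shiftBlock (F : Type*) [Field F] (d : ℕ) : Matrix (Fin d) (Fin d) F :=
  Matrix.of fun i j => if (i : ℕ) = (j : ℕ) + 1 then 1 else 0

theorem shiftBlock_pow (d k : ℕ) (i j : Fin d) :
    (shiftBlock F d ^ k) i j = if (i : ℕ) = (j : ℕ) + k then 1 else 0 := by
  induction k generalizing i with
  | zero => simp [Matrix.one_apply, Fin.ext_iff]
  | succ k ih =>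
    rw [pow_succ', Matrix.mul_apply]
    simp only [ih, mul_ite, mul_one, mul_zero]
    by_cases h : (j : ℕ) + k < d
    · rw [Finset.sum_eq_single ⟨(j : ℕ) + k, h⟩]
      · simp [shiftBlock, add_assoc]
      · intro b _ hb
        rw [if_neg fun e => hb (Fin.ext e)]
      · simp
    · rw [if_neg (by omega), Finset.sum_eq_zero fun b _ => if_neg (by omega)]

theorem shiftBlock_nilpotent (d : ℕ) : IsNilpotent (shiftBlock F d) :=
  ⟨d, Matrix.ext fun i j => by rw [shiftBlock_pow, if_neg (by omega), Matrix.zero_apply]⟩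

theorem fromBlocks_pow {D E : Type*} [Fintype D] [Fintype E] [DecidableEq D] [DecidableEq E]
    (A : Matrix D D F) (B : Matrix D E F) (N : Matrix E E F) (k : ℕ) :
    ∃ X, fromBlocks A B 0 N ^ k = fromBlocks (A ^ k) X 0 (N ^ k) := by
  induction k with
  | zero => exact ⟨0, by simp⟩
  | succ k ih =>
    obtain ⟨X, hX⟩ := ih
    exact ⟨A ^ k * B + X * N, by rw [pow_succ, hX, fromBlocks_multiply, pow_succ, pow_succ]; simp⟩

theorem isNilpotent_fromBlocks_iff {D E : Type*} [Fintype D] [Fintype E] [DecidableEq D] [DecidableEq E]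
    {A : Matrix D D F} {B : Matrix D E F} {N : Matrix E E F} (hA : IsNilpotent A) :
    IsNilpotent (fromBlocks A B 0 N) ↔ IsNilpotent N := by
  constructor
  · rintro ⟨k, hk⟩
    obtain ⟨X, hX⟩ := fromBlocks_pow A B N k
    rw [hX] at hk
    exact ⟨k, by rw [← fromBlocks_zero, fromBlocks_inj] at hk; exact hk.2.2.2⟩
  · rintro ⟨k, hk⟩
    obtain ⟨a, ha⟩ := hA
    obtain ⟨X, hX⟩ := fromBlocks_pow A B N a
    obtain ⟨Y, hY⟩ := fromBlocks_pow A B N k
    exact ⟨a + k, by rw [pow_add, hX, hY, ha, hk, fromBlocks_multiply]; simp⟩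

variable {V : Type*} [AddCommGroup V] [Module F V] [FiniteDimensional F V]

theorem card_nilpotent_end :
    Nat.card {f : End F V // IsNilpotent f} = nilCount F (finrank F V) :=
  Nat.card_congr ((LinearMap.toMatrixAlgEquiv (finBasis F V)).toEquiv.subtypeEquiv fun f =>
    (IsNilpotent.map_iff (LinearMap.toMatrixAlgEquiv (finBasis F V)).injective).symm)

variable [Fintype F]

theorem card_fibre {d : ℕ} {w : Fin d → V} (hw : LinearIndependent F w) :
    Nat.card {f : End F V // IsNilpotent f ∧ ∀ i, f (w i) = nextVec w i} =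
      Fintype.card F ^ (d * (finrank F V - d)) * nilCount F (finrank F V - d) := by
  classical
  let b₀ := Basis.sumExtend hw
  have : Finite (Fin d ⊕ Basis.sumExtendIndex hw) := Module.Finite.finite_basis b₀
  have : Finite (Basis.sumExtendIndex hw) :=
    Finite.of_injective _ (Sum.inr_injective (α := Fin d))
  let _ := Fintype.ofFinite (Basis.sumExtendIndex hw)
  set m := Fintype.card (Basis.sumExtendIndex hw) with hm
  let b : Basis (Fin d ⊕ Fin m) F V := b₀.reindex (Equiv.sumCongr (Equiv.refl _) (Fintype.equivFin _))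
  have hbw : ∀ i, b (Sum.inl i) = w i := fun i => by simp [b, b₀, Basis.sumExtend]; rfl
  have hcard : finrank F V - d = m := by
    rw [finrank_eq_card_basis b, Fintype.card_sum, Fintype.card_fin, Fintype.card_fin, Nat.add_sub_cancel_left]
  let Φ := LinearMap.toMatrixAlgEquiv b
  have hkey : ∀ f : End F V, (∀ i, f (w i) = nextVec w i) ↔
      toBlocks₁₁ (Φ f) = shiftBlock F d ∧ toBlocks₂₁ (Φ f) = 0 := by
    intro f
    have hnext : ∀ (j : Fin d) (x : Fin d ⊕ Fin m), b.repr (nextVec w j) x =
        Sum.elim (fun i => shiftBlock F d i j) (fun _ => 0) x := by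
      intro j x
      unfold nextVec
      split_ifs with h
      · rw [← hbw, Basis.repr_self_apply]
        rcases x with i | i
        · simp [shiftBlock, Fin.ext_iff, eq_comm]
        · simp
      · rcases x with i | i
        · simp only [map_zero, Finsupp.coe_zero, Pi.zero_apply, Sum.elim_inl, shiftBlock, Matrix.of_apply]
          rw [if_neg (by omega)]
        · simp
    constructor
    · intro h
      refine ⟨Matrix.ext fun i j => ?_, Matrix.ext fun i j => ?_⟩
      · simp only [toBlocks₁₁, Matrix.of_apply, Φ, LinearMap.toMatrixAlgEquiv_apply, hbw, h, hnext]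
        rfl
      · simp only [toBlocks₂₁, Matrix.of_apply, Φ, LinearMap.toMatrixAlgEquiv_apply, hbw, h, hnext]
        rfl
    · rintro ⟨h1, h2⟩ j
      refine b.repr.injective (Finsupp.ext fun x => ?_)
      rw [hnext]
      rcases x with i | i
      · have := congrFun (congrFun h1 i) j
        simpa [toBlocks₁₁, Φ, LinearMap.toMatrixAlgEquiv_apply, hbw] using this
      · have := congrFun (congrFun h2 i) j
        simpa [toBlocks₂₁, Φ, LinearMap.toMatrixAlgEquiv_apply, hbw] using this
  let G : Matrix (Fin d) (Fin m) F × {N : Matrix (Fin m) (Fin m) F // IsNilpotent N} →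
      {f : End F V // IsNilpotent f ∧ ∀ i, f (w i) = nextVec w i} := fun p =>
    ⟨Φ.symm (fromBlocks (shiftBlock F d) p.1 0 p.2.1),
      (IsNilpotent.map_iff Φ.injective).1 (by
        rw [Φ.apply_symm_apply]
        exact (isNilpotent_fromBlocks_iff (shiftBlock_nilpotent d)).2 p.2.2),
      (hkey _).2 (by rw [Φ.apply_symm_apply]; simp)⟩
  have hG : Function.Bijective G := by
    constructor
    · rintro ⟨B, N⟩ ⟨B', N'⟩ h
      have h' := congrArg (fun f => Φ f.1) h
      simp only [G, AlgEquiv.apply_symm_apply, fromBlocks_inj] at h'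
      exact Prod.ext h'.2.1 (Subtype.ext h'.2.2.2)
    · rintro ⟨f, hf, hfw⟩
      obtain ⟨h1, h2⟩ := (hkey f).1 hfw
      have he : Φ f = fromBlocks (shiftBlock F d) (toBlocks₁₂ (Φ f)) 0 (toBlocks₂₂ (Φ f)) := by
        conv_lhs => rw [← fromBlocks_toBlocks (Φ f), h1, h2]
      have hnil : IsNilpotent (toBlocks₂₂ (Φ f)) :=
        (isNilpotent_fromBlocks_iff (shiftBlock_nilpotent d)).1 (he ▸ hf.map Φ)
      exact ⟨(toBlocks₁₂ (Φ f), ⟨_, hnil⟩), Subtype.ext (by simp only [G]; rw [← he, AlgEquiv.symm_apply_apply])⟩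
  rw [← Nat.card_eq_of_bijective G hG, Nat.card_prod, hcard, nilCount]
  simp [Matrix, Nat.card_eq_fintype_card, Fintype.card_pi, pow_mul, ← pow_mul, mul_comm]

variable (F) (V)

/-- A nilpotent endomorphism together with a chain of independent vectors. -/
abbrev ChainData : Type _ := Σ d : Fin (finrank F V + 1), Σ w : {w : Fin d → V // LinearIndependent F w},
  {f : End F V // IsNilpotent f ∧ ∀ i, f (w.1 i) = nextVec w.1 i}

variable {F} {V}

omit [Fintype F] [FiniteDimensional F V] in
theorem pow_chain {d : ℕ} {w : Fin d → V} {f : End F V} (h : ∀ i, f (w i) = nextVec w i)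
    (hd : 0 < d) : ∀ k, (f ^ k) (w ⟨0, hd⟩) = if hk : k < d then w ⟨k, hk⟩ else 0 := by
  intro k
  induction k with
  | zero => simp [hd]
  | succ k ih =>
    rw [pow_succ', Module.End.mul_apply, ih]
    by_cases hk : k < d
    · rw [dif_pos hk, h, nextVec]
    · rw [dif_neg hk, map_zero, dif_neg (by omega)]

omit [Fintype F] in
theorem chain_bijective : Function.Bijective (fun x : ChainData F V =>
    ((⟨x.2.2.1, x.2.2.2.1⟩, if h : 0 < (x.1 : ℕ) then x.2.1.1 ⟨0, h⟩ else 0) :
      {f : End F V // IsNilpotent f} × V)) := by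
  constructor
  · rintro ⟨d, ⟨w, hw⟩, ⟨f, hf, hfw⟩⟩ ⟨d', ⟨w', hw'⟩, ⟨f', hf', hfw'⟩⟩ h
    simp only [Prod.mk.injEq, Subtype.mk.injEq] at h
    obtain ⟨rfl, hv⟩ := h
    replace hfw : ∀ i, f (w i) = nextVec w i := hfw
    replace hfw' : ∀ i, f (w' i) = nextVec w' i := hfw'
    have hdd : d = d' := by
      by_contra hne
      rcases Nat.eq_zero_or_pos (d : ℕ) with h0 | h0 <;> rcases Nat.eq_zero_or_pos (d' : ℕ) with h0' | h0'
      · exact hne (Fin.ext (h0.trans h0'.symm))
      · rw [dif_neg (by omega), dif_pos h0'] at hv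
        exact hw'.ne_zero _ hv.symm
      · rw [dif_pos h0, dif_neg (by omega)] at hv
        exact hw.ne_zero _ hv
      · rw [dif_pos h0, dif_pos h0'] at hv
        rcases Nat.lt_trichotomy (d : ℕ) d' with hlt | he | hlt
        · have e := pow_chain hfw h0 d
          rw [hv, pow_chain hfw' h0' d, dif_pos hlt, dif_neg (lt_irrefl _)] at e
          exact hw'.ne_zero _ e
        · exact hne (Fin.ext he)
        · have e := pow_chain hfw' h0' d'
          rw [← hv, pow_chain hfw h0 d', dif_pos hlt, dif_neg (lt_irrefl _)] at e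
          exact hw.ne_zero _ e
    subst hdd
    have hww : w = w' := by
      funext i
      have h0 : 0 < (d : ℕ) := lt_of_le_of_lt (Nat.zero_le _) i.2
      rw [dif_pos h0, dif_pos h0] at hv
      have e := pow_chain hfw h0 i
      rw [hv, pow_chain hfw' h0 i, dif_pos i.2, dif_pos i.2] at e
      exact e.symm
    subst hww
    rfl
  · rintro ⟨⟨f, hf⟩, v⟩
    classical
    have hex : ∃ k, (f ^ k) v = 0 := hf.imp fun k hk => by rw [hk, LinearMap.zero_apply]
    set d := Nat.find hex with hd
    have hd0 : ∀ k, d ≤ k → (f ^ k) v = 0 := fun k hk => by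
      obtain ⟨j, rfl⟩ := Nat.exists_eq_add_of_le hk
      rw [add_comm, pow_add, Module.End.mul_apply, Nat.find_spec hex, map_zero]
    let w : Fin d → V := fun i => (f ^ (i : ℕ)) v
    have hw : LinearIndependent F w := by
      rw [Fintype.linearIndependent_iff]
      intro c hc i
      induction i using WellFounded.induction (measure (fun i : Fin d => (i : ℕ))).wf with
      | _ i ih =>
        have hi : (i : ℕ) < d := i.2
        have h1 := congrArg (f ^ (d - 1 - i)) hc
        rw [map_sum, map_zero, Finset.sum_eq_single i, map_smul, ← Module.End.mul_apply, ← pow_add,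
          show d - 1 - i + i = d - 1 by omega, smul_eq_zero] at h1
        · exact h1.resolve_right (Nat.find_min hex (by omega))
        · intro j _ hj
          rw [map_smul]
          rcases lt_or_gt_of_ne (Fin.val_ne_of_ne hj) with hlt | hlt
          · rw [ih j hlt, zero_smul]
          · rw [← Module.End.mul_apply, ← pow_add, hd0 _ (by omega), smul_zero]
        · simp
    have hdn : d < finrank F V + 1 := by
      have := hw.fintype_card_le_finrank
      rw [Fintype.card_fin] at this
      omega
    refine ⟨⟨⟨d, hdn⟩, ⟨w, hw⟩, ⟨f, hf, fun i => ?_⟩⟩, ?_⟩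
    · show f ((f ^ (i : ℕ)) v) = _
      rw [← Module.End.mul_apply, ← pow_succ', nextVec]
      split_ifs with h
      · rfl
      · exact hd0 _ (by have h' : ¬ (i : ℕ) + 1 < d := h; show d ≤ _; omega)
    · refine Prod.ext rfl ?_
      show (if h : 0 < d then w ⟨0, h⟩ else 0) = v
      split_ifs with h
      · rfl
      · have e := hd0 0 (by omega)
        simpa using e.symm

theorem card_pow_mul_nilCount :
    Fintype.card F ^ finrank F V * nilCount F (finrank F V) = ∑ d ∈ Finset.range (finrank F V + 1),
      (∏ i : Fin d, (Fintype.card F ^ finrank F V - Fintype.card F ^ (i : ℕ))) *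
        (Fintype.card F ^ (d * (finrank F V - d)) * nilCount F (finrank F V - d)) := by
  classical
  have : Finite V := Module.finite_of_finite F
  let _ := Fintype.ofFinite V
  have : Finite (End F V) := Finite.of_injective _ (DFunLike.coe_injective (F := End F V))
  have h := Nat.card_eq_of_bijective _ (chain_bijective (F := F) (V := V))
  rw [Nat.card_prod, card_nilpotent_end, Nat.card_eq_fintype_card (α := V),
    Module.card_eq_pow_finrank (K := F), mul_comm] at h
  rw [← h, Nat.card_sigma, ← Fin.sum_univ_eq_sum_range]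
  refine Finset.sum_congr rfl fun d _ => ?_
  rw [Nat.card_sigma, Finset.sum_congr rfl fun w _ => card_fibre w.2, Finset.sum_const, Finset.card_univ,
    smul_eq_mul, ← Nat.card_eq_fintype_card, card_linearIndependent (Nat.lt_succ_iff.1 d.2)]

variable (F)

theorem nilCount_eq (n : ℕ) : nilCount F n = Fintype.card F ^ (n * (n - 1)) := by
  induction n using Nat.strong_induction_on with
  | _ n ih =>
    obtain ⟨q, hqdef⟩ : ∃ q, q = Fintype.card F := ⟨_, rfl⟩
    have hq : 2 ≤ q := hqdef ▸ Fintype.one_lt_card
    rw [← hqdef]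
    rcases Nat.eq_zero_or_pos n with h0 | h0
    · subst h0
      rw [zero_mul, pow_zero, nilCount, Nat.card_eq_one_iff_unique]
      exact ⟨⟨fun a b => Subtype.ext (Subsingleton.elim _ _)⟩, ⟨⟨0, IsNilpotent.zero⟩⟩⟩
    have h := card_pow_mul_nilCount (F := F) (V := Fin n → F)
    rw [Module.finrank_fin_fun, ← hqdef] at h
    let I : ℕ → ℕ := fun d => ∏ i : Fin d, (q ^ n - q ^ (i : ℕ))
    let t : ℕ → ℕ := fun d => I d * (q ^ (d * (n - d)) * nilCount F (n - d))
    have htail : ∀ j, j < n → ∑ d ∈ Finset.Ico (n - j) (n + 1), t d = I (n - j) * q ^ (j * n) := by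
      intro j hj
      induction j with
      | zero =>
        rw [Nat.sub_zero, Nat.Ico_succ_singleton, Finset.sum_singleton]
        simp [t, ih 0 h0, hqdef]
      | succ j ihj =>
        rw [Finset.sum_eq_sum_Ico_succ_bot (by omega), show n - (j + 1) + 1 = n - j by omega,
          ihj (by omega)]
        have hI : I (n - j) = I (n - (j + 1)) * (q ^ n - q ^ (n - (j + 1))) := by
          simp only [I]
          rw [show n - j = n - (j + 1) + 1 by omega, Fin.prod_univ_castSucc]
          rfl
        obtain ⟨d, hd⟩ : ∃ d, n - (j + 1) = d := ⟨_, rfl⟩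
        rw [hd] at hI ⊢
        simp only [t]
        rw [hI, ih (n - d) (by omega), ← hqdef, ← pow_add, mul_assoc, ← mul_add]
        congr 1
        have hnd : n - d = j + 1 := by omega
        have hnd' : n = d + (j + 1) := by omega
        rw [hnd]
        rw [show d * (j + 1) + (j + 1) * (j + 1 - 1) = d + j * n by
          rw [Nat.add_sub_cancel, hnd']; ring, Nat.sub_mul, ← pow_add, ← pow_add,
          show (j + 1) * n = n + j * n by ring, Nat.add_sub_cancel']
        exact Nat.pow_le_pow_right (by omega) (by omega)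
    have h1 := htail (n - 1) (by omega)
    rw [show n - (n - 1) = 1 by omega] at h1
    rw [Finset.range_eq_Ico, Finset.sum_eq_sum_Ico_succ_bot (Nat.succ_pos n), zero_add, h1] at h
    simp only [I, Fin.prod_univ_zero, Fin.prod_univ_one, Fin.val_zero, pow_zero, one_mul, zero_mul,
      Nat.sub_zero] at h
    have hpos : 0 < q ^ n - 1 := by
      have := Nat.one_lt_pow h0.ne' (show 1 < q by omega)
      omega
    refine Nat.eq_of_mul_eq_mul_left hpos ?_
    rw [mul_comm n]
    calc (q ^ n - 1) * nilCount F n = q ^ n * nilCount F n - nilCount F n := by rw [Nat.sub_mul, one_mul]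
      _ = (q ^ n - 1) * q ^ ((n - 1) * n) := by rw [h, Nat.add_sub_cancel_left]

end CfsgLib.GLUnip
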